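import Mathlib
import Cfsg.Agent.H19.Ly.N.D0
import Cfsg.Agent.H19.Ly.G2

set_option autoImplicit false
set_option maxRecDepth 100000
set_option Elab.async false
set_option linter.all false

namespace H19.Ly.N
open H29

noncomputable def nl : List Net := [n0, n1, n2, n3, n4, n5, n6, n7, n8, n9, n10, n11, n12, n13, n14, n15, n16, n17, n18, n19, n20, n21, n22, n23, n24, n25]
noncomputable def nets : ℕ → Net := nth Net.nil nl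
theorem hn : NetsOK 19530 nets := netsOK_of_all (by decide +kernel)
def G0 : List (List ℕ) := [[0, 0, 0, 0, 0, 0, 0, 0], [2, 2, 2, 2, 2], [0, 2, 0, 2, 0, 2, 0, 2], [1, 1, 3, 0, 0, 2], [1, 3, 0, 2, 1, 3, 0, 2, 1, 3, 0, 2], [10, 5], [12, 1, 5, 0], [14, 3, 5, 2], [16, 2, 5, 3], [18, 13, 11, 12, 10], [10, 10, 10, 10, 10], [18, 18, 18, 18, 18], [11, 19, 10, 18], [13, 19, 12, 18], [15, 19, 14, 18], [17, 19, 16, 18], [11, 15, 10, 14, 18, 18], [11, 17, 10, 16, 19, 19], [13, 15, 12, 14, 18], [13, 17, 12, 16], [15, 17, 14, 16, 18], [1, 12, 0, 10, 10], [1, 14, 0, 17, 11, 14, 14], [1, 16, 0, 17, 11, 17, 14, 12, 11], [1, 18, 0, 19, 19], [3, 12, 2, 16, 10, 16, 15, 13], [3, 14, 2, 14, 14, 17, 11, 11], [3, 18, 2, 19], [8, 7, 11, 7, 2, 1, 3, 11, 7, 1, 11, 0, 11, 1, 10, 0, 2, 2], [8, 8], [9, 10, 8, 10, 3, 15, 3], [9, 14, 8, 0, 16, 10, 13,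 1, 3, 3], [9, 16, 8, 17, 14, 3, 3], [9, 18, 8, 16, 11, 14, 11], [8, 0, 0, 8, 16, 19, 11, 1, 2, 1, 3, 3, 1], [9, 2, 8, 16, 16, 14, 11], [8, 0, 2, 2, 0, 3, 0, 8, 16, 19, 11, 1, 1], [8, 12, 8, 13, 8, 12, 17, 0, 14, 0, 0, 0], [6, 9, 3, 12, 1, 9, 1, 9, 1, 18, 16, 10, 2, 0, 3, 3, 1], [6, 6, 1, 1, 1, 1], [3, 7, 2, 6], [7, 0, 6, 1, 1, 1], [6, 18, 6, 18, 6, 18, 6, 18, 6, 18], [6, 18, 6, 19, 6, 18, 1, 1], [20, 1], [22, 2, 1, 3], [24, 2, 2, 1, 3, 3]]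

end H19.Ly.N
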