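import Mathlib
import Cfsg.Agent.H19.Ly.N.B

set_option autoImplicit false
set_option maxRecDepth 100000
set_option Elab.async false
set_option linter.all false

namespace H19.Ly.N
open H29

theorem iv0 : chkIvP 19530 15 nets (ivOf Ly.ivl) 78 0 = true := by decide +kernel

theorem iv1 : chkIvP 19530 15 nets (ivOf Ly.ivl) 78 1 = true := by decide +kernel

theorem iv2 : chkIvP 19530 15 nets (ivOf Ly.ivl) 78 2 = true := by decide +kernel

theorem iv3 : chkIvP 19530 15 nets (ivOf Ly.ivl) 78 3 = true := by decide +kernel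

theorem iv4 : chkIvP 19530 15 nets (ivOf Ly.ivl) 78 4 = true := by decide +kernel

theorem iv5 : chkIvP 19530 15 nets (ivOf Ly.ivl) 78 5 = true := by decide +kernel

theorem iv6 : chkIvP 19530 15 nets (ivOf Ly.ivl) 78 6 = true := by decide +kernel

theorem iv7 : chkIvP 19530 15 nets (ivOf Ly.ivl) 78 7 = true := by decide +kernel

theorem iv8 : chkIvP 19530 15 nets (ivOf Ly.ivl) 78 8 = true := by decide +kernel

theorem iv9 : chkIvP 19530 15 nets (ivOf Ly.ivl) 78 9 = true := by decide +kernel

theorem iv10 : chkIvP 19530 15 nets (ivOf Ly.ivl) 78 10 = true := by decide +kernel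

theorem iv11 : chkIvP 19530 15 nets (ivOf Ly.ivl) 78 11 = true := by decide +kernel

theorem iv12 : chkIvP 19530 15 nets (ivOf Ly.ivl) 78 12 = true := by decide +kernel

theorem iv13 : chkIvP 19530 15 nets (ivOf Ly.ivl) 78 13 = true := by decide +kernel

theorem iv14 : chkIvP 19530 15 nets (ivOf Ly.ivl) 78 14 = true := by decide +kernel

theorem r0_0 : chkRelP 19530 15 nets (ivOf Ly.ivl) G0 0 = true := by decide +kernel

theorem r0_1 : chkRelP 19530 15 nets (ivOf Ly.ivl) G0 1 = true := by decide +kernel

theorem r0_2 : chkRelP 19530 15 nets (ivOf Ly.ivl) G0 2 = true := by decide +kernel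

theorem r0_3 : chkRelP 19530 15 nets (ivOf Ly.ivl) G0 3 = true := by decide +kernel

theorem r0_4 : chkRelP 19530 15 nets (ivOf Ly.ivl) G0 4 = true := by decide +kernel

theorem r0_5 : chkRelP 19530 15 nets (ivOf Ly.ivl) G0 5 = true := by decide +kernel

theorem r0_6 : chkRelP 19530 15 nets (ivOf Ly.ivl) G0 6 = true := by decide +kernel

theorem r0_7 : chkRelP 19530 15 nets (ivOf Ly.ivl) G0 7 = true := by decide +kernel

theorem r0_8 : chkRelP 19530 15 nets (ivOf Ly.ivl) G0 8 = true := by decide +kernel

theorem r0_9 : chkRelP 19530 15 nets (ivOf Ly.ivl) G0 9 = true := by decide +kernel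

theorem r0_10 : chkRelP 19530 15 nets (ivOf Ly.ivl) G0 10 = true := by decide +kernel

theorem r0_11 : chkRelP 19530 15 nets (ivOf Ly.ivl) G0 11 = true := by decide +kernel

theorem r0_12 : chkRelP 19530 15 nets (ivOf Ly.ivl) G0 12 = true := by decide +kernel

theorem r0_13 : chkRelP 19530 15 nets (ivOf Ly.ivl) G0 13 = true := by decide +kernel

theorem r0_14 : chkRelP 19530 15 nets (ivOf Ly.ivl) G0 14 = true := by decide +kernel

end H19.Ly.N
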